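import Groth.Prelude.Def_W4c1limliniiiiRamP1
import Mathlib.RingTheory.Polynomial.Wronskian
import Mathlib.RingTheory.Polynomial.Tower
import Mathlib.FieldTheory.IsAlgClosed.Basic
import Mathlib.Algebra.CharP.Basic
import Mathlib.RingTheory.Coprime.Lemmas
import Mathlib.LinearAlgebra.Dimension.Finite

/-!
Pencils of polynomials and their Wronskians.
-/

set_option autoImplicit false
universe u

open Polynomial

namespace Groth.Agent.CAlg9.Pencil

variable {k : Type u} [Field k]

theorem wronskian_smul_add (a b : k[X]) (α β γ δ : k) :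
    wronskian (α • a + β • b) (γ • a + δ • b) = (α * δ - β * γ) • wronskian a b := by
  simp only [wronskian, smul_eq_C_mul, derivative_add, derivative_C_mul, map_sub, map_mul]
  ring

theorem exists_wronskian_eq {a b s t : k[X]} (hs : s ∈ Submodule.span k {a, b})
    (ht : t ∈ Submodule.span k {a, b}) : ∃ c : k, wronskian s t = c • wronskian a b := by
  obtain ⟨α, β, rfl⟩ := Submodule.mem_span_pair.1 hs
  obtain ⟨γ, δ, rfl⟩ := Submodule.mem_span_pair.1 ht
  exact ⟨_, wronskian_smul_add a b α β γ δ⟩

theorem isSeparable_span_iff (a b : k[X]) :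
    W4c1limliniiii.IsSeparable (Submodule.span k {a, b}) ↔ wronskian a b ≠ 0 := by
  constructor
  · rintro ⟨F, hF, G, hG, hW⟩ h
    obtain ⟨c, hc⟩ := exists_wronskian_eq hF hG
    rw [h, smul_zero] at hc
    exact hW hc
  · exact fun h => ⟨a, Submodule.subset_span (by simp), b, Submodule.subset_span (by simp), h⟩

theorem finrank_span_pair {a b : k[X]} (h : LinearIndependent k ![a, b]) :
    Module.finrank k (Submodule.span k {a, b}) = 2 := by
  have := finrank_span_eq_card h
  rw [Matrix.range_cons_cons_empty] at this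
  simpa using this

theorem eq_span_pair {V : Submodule k k[X]} (hV : Module.finrank k V = 2) {a b : k[X]} (ha : a ∈ V) (hb : b ∈ V)
    (h : LinearIndependent k ![a, b]) : Submodule.span k {a, b} = V := by
  have : Module.Finite k V := Module.finite_of_finrank_eq_succ hV
  refine Submodule.eq_of_le_of_finrank_eq (Submodule.span_le.2 ?_) (by rw [finrank_span_pair h, hV])
  intro x hx
  rcases hx with rfl | rfl
  · exact ha
  · exact hb

theorem wronskian_eq_zero_of_not_independent {a b : k[X]} (h : ¬ LinearIndependent k ![a, b]) :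
    wronskian a b = 0 := by
  rw [LinearIndependent.pair_iff] at h
  push Not at h
  obtain ⟨s, t, hst, hne⟩ := h
  by_cases hs : s = 0
  · subst hs
    have ht : t ≠ 0 := fun ht => hne rfl ht
    rw [zero_smul, zero_add, smul_eq_zero] at hst
    rw [hst.resolve_left ht, wronskian_zero_right]
  · have : a = (-(t / s)) • b := by
      have h1 : s⁻¹ • (s • a + t • b) = 0 := by rw [hst, smul_zero]
      rw [smul_add, smul_smul, smul_smul, inv_mul_cancel₀ hs, one_smul, add_eq_zero_iff_eq_neg] at h1
      rw [h1, neg_smul, div_eq_inv_mul]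
    subst this
    simpa using wronskian_smul_add b b (-(t / s)) 0 1 0

theorem natDegree_wronskian_le {n : ℕ} {a b : k[X]} (ha : a.natDegree ≤ n) (hb : b.natDegree ≤ n)
    (hW : wronskian a b ≠ 0) : (wronskian a b).natDegree + 2 ≤ 2 * n := by
  by_cases h : a.natDegree < n ∨ b.natDegree < n
  · have := natDegree_wronskian_lt_add hW
    omega
  · push Not at h
    have han : a.natDegree = n := le_antisymm ha h.1
    have hbn : b.natDegree = n := le_antisymm hb h.2
    have ha0 : a ≠ 0 := fun e => hW (by rw [e, wronskian_zero_left])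
    let c : k := b.leadingCoeff / a.leadingCoeff
    have hW' : wronskian a (b - c • a) = wronskian a b := by
      have := wronskian_smul_add a b 1 0 (-c) 1
      rw [one_smul, zero_smul, add_zero, one_smul, neg_smul, neg_add_eq_sub] at this
      rw [this]
      simp
    rw [← hW'] at hW ⊢
    have hlt := natDegree_wronskian_lt_add hW
    have hne : b - c • a ≠ 0 := fun e => hW (by rw [e, wronskian_zero_right])
    have hdeg : (b - c • a).natDegree < n := by
      rcases Nat.eq_zero_or_pos n with hn | hn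
      · exfalso
        apply hne
        rw [eq_C_of_natDegree_eq_zero (han.trans hn), eq_C_of_natDegree_eq_zero (hbn.trans hn), smul_C, ← map_sub]
        have hca : a.leadingCoeff = a.coeff 0 := by rw [leadingCoeff, han, hn]
        have hcb : b.leadingCoeff = b.coeff 0 := by rw [leadingCoeff, hbn, hn]
        have hne0 : a.coeff 0 ≠ 0 := hca ▸ leadingCoeff_ne_zero.2 ha0
        simp [c, hca, hcb, div_mul_cancel₀ _ hne0]
      · rw [natDegree_lt_iff_degree_lt hne, degree_lt_iff_coeff_zero]
        intro m hm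
        rw [coeff_sub, coeff_smul, smul_eq_mul]
        rcases eq_or_lt_of_le hm with rfl | hlt'
        · have h1 : b.coeff n = b.leadingCoeff := by rw [leadingCoeff, hbn]
          have h2 : a.coeff n = a.leadingCoeff := by rw [leadingCoeff, han]
          rw [h1, h2, div_mul_cancel₀ _ (leadingCoeff_ne_zero.2 ha0), sub_self]
        · rw [coeff_eq_zero_of_natDegree_lt (ha.trans_lt hlt'), coeff_eq_zero_of_natDegree_lt (hb.trans_lt hlt'),
            mul_zero, sub_zero]
    omega

theorem pow_dvd_wronskian {a : k} {e : ℕ} {s : k[X]} (t : k[X]) (h : (X - C a) ^ e ∣ s) :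
    (X - C a) ^ (e - 1) ∣ wronskian s t := by
  rw [wronskian]
  exact dvd_sub (dvd_mul_of_dvd_left ((pow_dvd_pow _ (Nat.sub_le e 1)).trans h) _)
    (dvd_mul_of_dvd_left (pow_sub_one_dvd_derivative_of_pow_dvd h) _)

theorem pow_dvd_wronskian_of_mem {a : k} {m : ℕ} {F G x : k[X]} (hx : x ∈ Submodule.span k {F, G}) (hx0 : x ≠ 0)
    (h : (X - C a) ^ m ∣ x) : (X - C a) ^ (m - 1) ∣ wronskian F G := by
  obtain ⟨α, β, rfl⟩ := Submodule.mem_span_pair.1 hx
  have hcancel : ∀ c : k, c ≠ 0 → (X - C a) ^ (m - 1) ∣ c • wronskian F G →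
      (X - C a) ^ (m - 1) ∣ wronskian F G := fun c hc h' => by
    rw [smul_eq_C_mul] at h'
    exact (Polynomial.isUnit_C.2 hc.isUnit).dvd_mul_left.1 h'
  by_cases hα : α = 0
  · subst hα
    have hβ : β ≠ 0 := fun hβ => hx0 (by rw [hβ, zero_smul, zero_smul, add_zero])
    refine hcancel (-β) (neg_ne_zero.2 hβ) ?_
    have := pow_dvd_wronskian ((1 : k) • F + (0 : k) • G) h
    rwa [wronskian_smul_add, zero_mul, mul_one, zero_sub] at this
  · refine hcancel α hα ?_
    have := pow_dvd_wronskian ((0 : k) • F + (1 : k) • G) h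
    rwa [wronskian_smul_add, mul_one, mul_zero, sub_zero] at this

theorem sum_le_natDegree {n : ℕ} {P : Fin n → k} (hP : Function.Injective P) (f : Fin n → ℕ) {q : k[X]}
    (hq : q ≠ 0) (h : ∀ i, (X - C (P i)) ^ f i ∣ q) : ∑ i, f i ≤ q.natDegree := by
  have hdvd : ∏ i, (X - C (P i)) ^ f i ∣ q :=
    Fintype.prod_dvd_of_coprime (fun i j hij => (pairwise_coprime_X_sub_C hP hij).pow) h
  have := natDegree_le_of_dvd hdvd hq
  rw [natDegree_prod _ _ fun i _ => pow_ne_zero _ (X_sub_C_ne_zero (P i))] at this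
  simpa using this

theorem dvd_of_le_rootMultiplicity {a : k} {e : ℕ} {s : k[X]} (h : e ≤ rootMultiplicity a s) :
    (X - C a) ^ e ∣ s :=
  (pow_dvd_pow _ h).trans (pow_rootMultiplicity_dvd s a)

theorem natDegree_le_of_mem_degreeLE {d : ℕ} {s : k[X]} (h : s ∈ degreeLE k (d : WithBot ℕ)) : s.natDegree ≤ d :=
  natDegree_le_of_degree_le (mem_degreeLE.1 h)

theorem mem_degreeLE_of_natDegree_le {d : ℕ} {s : k[X]} (h : s.natDegree ≤ d) :
    s ∈ degreeLE k (d : WithBot ℕ) :=
  mem_degreeLE.2 (degree_le_of_natDegree_le h)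

theorem natDegree_smul_add_le {d : ℕ} {a b : k[X]} (ha : a.natDegree ≤ d) (hb : b.natDegree ≤ d) (α β : k) :
    (α • a + β • b).natDegree ≤ d :=
  (natDegree_add_le _ _).trans (max_le ((natDegree_smul_le _ _).trans ha) ((natDegree_smul_le _ _).trans hb))

theorem span_pair_le_degreeLE {d : ℕ} {a b : k[X]} (ha : a.natDegree ≤ d) (hb : b.natDegree ≤ d) :
    Submodule.span k {a, b} ≤ degreeLE k (d : WithBot ℕ) := by
  rw [Submodule.span_le]
  rintro x (rfl | rfl)
  · exact mem_degreeLE_of_natDegree_le ha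
  · exact mem_degreeLE_of_natDegree_le hb

/-- the exact order of vanishing of the Wronskian -/
theorem wronskian_local {a : k} {b : ℕ} (hb : 1 ≤ b) {s u : k[X]} :
    ∃ r : k[X], wronskian s ((X - C a) ^ b * u) = (X - C a) ^ (b - 1) * r ∧
      r.eval a = (b : k) * s.eval a * u.eval a ∧ ((b : k) = 0 → (X - C a) ∣ r) := by
  obtain ⟨c, rfl⟩ : ∃ c, b = c + 1 := ⟨b - 1, by omega⟩
  refine ⟨C ((c + 1 : ℕ) : k) * s * u + (X - C a) * (s * derivative u - derivative s * u), ?_, ?_, ?_⟩
  · rw [Nat.add_sub_cancel, wronskian, derivative_mul, derivative_pow_succ, derivative_sub, derivative_X, derivative_C]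
    simp only [Nat.cast_add, Nat.cast_one, map_add, map_one, pow_succ]
    ring
  · simp
  · intro h0
    rw [h0, map_zero, zero_mul, zero_mul, zero_add]
    exact dvd_mul_right _ _

end Groth.Agent.CAlg9.Pencil
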