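import Mathlib.RingTheory.Nullstellensatz
import Mathlib.RingTheory.Ideal.KrullsHeightTheorem
import Mathlib.RingTheory.Ideal.MinimalPrime.Noetherian
import Mathlib.Algebra.Polynomial.Roots

/-!
Finiteness of the slice at 1 of a weighted cone whose slice at 0 is only the vertex.
-/

set_option autoImplicit false
universe u v

namespace Groth.Agent.CAlg9.Pencil

open MvPolynomial

variable {k : Type u} [Field k] {τ : Type v}

/-- the weighted line through `z` -/
def curvePt (w : τ → ℕ) (z : Option τ → k) (l : k) : Option τ → k :=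
  fun o => o.elim l fun t => z (some t) * l ^ w t

theorem curvePt_one (w : τ → ℕ) {z : Option τ → k} (hz : z none = 1) : curvePt w z 1 = z := by
  funext o
  cases o <;> simp [curvePt, hz]

theorem curvePt_zero {w : τ → ℕ} (hw : ∀ t, w t ≠ 0) (z : Option τ → k) : curvePt w z 0 = 0 := by
  funext o
  cases o <;> simp [curvePt, hw]

/-- restriction of a polynomial to the weighted line -/
noncomputable def curveHom (w : τ → ℕ) (z : Option τ → k) :
    MvPolynomial (Option τ) k →ₐ[k] Polynomial k :=
  MvPolynomial.aeval fun o : Option τ => o.elim Polynomial.X fun t => Polynomial.C (z (some t)) * Polynomial.X ^ w t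

theorem eval_curveHom (w : τ → ℕ) (z : Option τ → k) (l : k) (q : MvPolynomial (Option τ) k) :
    (curveHom w z q).eval l = MvPolynomial.aeval (curvePt w z l) q := by
  have h : (Polynomial.aeval l).comp (curveHom w z) = MvPolynomial.aeval (curvePt w z l) := by
    apply MvPolynomial.algHom_ext
    intro o
    cases o <;> simp [curveHom, curvePt]
  simpa [Polynomial.aeval_def, Polynomial.eval₂_eq_eval_map] using DFunLike.congr_fun h q

theorem finite_slice [IsAlgClosed k] [Finite τ] (I : Ideal (MvPolynomial (Option τ) k)) (w : τ → ℕ)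
    (hw : ∀ t, w t ≠ 0)
    (hscale : ∀ z ∈ zeroLocus k I, z none = 1 → ∀ l : k, l ≠ 0 → curvePt w z l ∈ zeroLocus k I)
    (hzero : ∀ z ∈ zeroLocus k I, z none = 0 → z = 0) :
    {z ∈ zeroLocus k I | z none = 1}.Finite := by
  let S := {z ∈ zeroLocus k I | z none = 1}
  let P : (Option τ → k) → Ideal (MvPolynomial (Option τ) k) := fun z => RingHom.ker (curveHom w z)
  have hIP : ∀ z ∈ S, I ≤ P z := by
    intro z hz q hq
    have h : curveHom w z q * Polynomial.X = 0 := by
      refine Polynomial.funext fun l => ?_
      rw [Polynomial.eval_mul, Polynomial.eval_X, Polynomial.eval_zero]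
      by_cases hl : l = 0
      · rw [hl, mul_zero]
      · rw [eval_curveHom, (hscale z hz.1 hz.2 l hl) q hq, zero_mul]
    exact (mul_eq_zero.1 h).resolve_right Polynomial.X_ne_zero
  have hmin : ∀ z ∈ S, P z ∈ I.minimalPrimes := by
    intro z hz
    have hP : (P z).IsPrime := RingHom.ker_isPrime _
    refine ⟨⟨hP, hIP z hz⟩, fun Q hQ hQP => ?_⟩
    have := hQ.1
    by_contra hne
    have hlt : Q < P z := lt_of_le_not_ge hQP hne
    let m : Ideal (MvPolynomial (Option τ) k) := vanishingIdeal k {(0 : Option τ → k)}
    have hPm : P z ≤ m := fun q hq => by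
      rw [mem_vanishingIdeal_singleton_iff, ← curvePt_zero hw z, ← eval_curveHom w z,
        show curveHom w z q = 0 from hq, Polynomial.eval_zero]
    have hXm : (X none : MvPolynomial (Option τ) k) ∈ m := by
      rw [mem_vanishingIdeal_singleton_iff]; simp
    have hXP : (X none : MvPolynomial (Option τ) k) ∉ P z := fun h => by
      have : curveHom w z (X none) = 0 := h
      simp [curveHom, Polynomial.X_ne_zero] at this
    have hPm' : P z < m := lt_of_le_not_ge hPm fun h => hXP (h hXm)
    have hm : m.IsPrime := inferInstance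
    let π := Ideal.Quotient.mk Q
    have hPbar : ((P z).map π).IsPrime :=
      Ideal.map_isPrime_of_surjective Ideal.Quotient.mk_surjective (by rw [Ideal.mk_ker]; exact hQP)
    have hmbar : (m.map π).IsPrime :=
      Ideal.map_isPrime_of_surjective Ideal.Quotient.mk_surjective (by rw [Ideal.mk_ker]; exact hQP.trans hPm)
    have hcomap : ∀ J, Q ≤ J → (J.map π).comap π = J := fun J hJ => by
      rw [Ideal.comap_map_of_surjective π Ideal.Quotient.mk_surjective, ← RingHom.ker_eq_comap_bot,
        Ideal.mk_ker, sup_eq_left.2 hJ]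
    have hlt1 : (⊥ : Ideal (MvPolynomial (Option τ) k ⧸ Q)) < (P z).map π := by
      refine lt_of_le_of_ne bot_le fun h => hlt.ne ?_
      rw [← hcomap _ hQP, ← h, ← RingHom.ker_eq_comap_bot, Ideal.mk_ker]
    have hlt2 : (P z).map π < m.map π := by
      refine lt_of_le_of_ne (Ideal.map_mono hPm) fun h => hPm'.ne ?_
      rw [← hcomap _ hQP, h, hcomap _ (hQP.trans hPm)]
    have hmem : m.map π ∈ (Ideal.span {π (X none)}).minimalPrimes := by
      refine ⟨⟨hmbar, ?_⟩, fun J hJ hJm => ?_⟩
      · rw [Ideal.span_singleton_le_iff_mem]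
        exact Ideal.mem_map_of_mem π hXm
      · have hJp := hJ.1
        have hmJ : m ≤ J.comap π := by
          conv_rhs => rw [← IsPrime.vanishingIdeal_zeroLocus (K := k) (J.comap π)]
          refine vanishingIdeal_anti_mono fun y hy => ?_
          have hyI : y ∈ zeroLocus k I := fun q hq => hy q (by
            show π q ∈ J
            rw [show π q = 0 from Ideal.Quotient.eq_zero_iff_mem.2 (hQ.2 hq)]
            exact zero_mem J)
          have hy0 := hy (X none) (hJ.2 (Ideal.subset_span rfl))
          rw [aeval_X] at hy0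
          exact hzero y hyI hy0
        exact Ideal.map_le_iff_le_comap.2 hmJ
    have h1 := Ideal.height_le_one_of_isPrincipal_of_mem_minimalPrimes _ _ hmem
    have h2 := Ideal.height_add_one_le_of_lt_of_isPrime hlt1
    have h3 := Ideal.height_add_one_le_of_lt_of_isPrime hlt2
    have h4 : (2 : ℕ∞) ≤ 1 := by
      calc (2 : ℕ∞) = 1 + 1 := by norm_num
        _ ≤ ((⊥ : Ideal (MvPolynomial (Option τ) k ⧸ Q)).height + 1) + 1 := by gcongr; exact self_le_add_left 1 _
        _ ≤ ((P z).map π).height + 1 := by gcongr
        _ ≤ 1 := h3.trans h1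
    exact absurd h4 (by decide)
  refine Set.Finite.of_injOn (f := P) (fun z hz => hmin z hz) ?_ (I.finite_minimalPrimes_of_isNoetherianRing _)
  intro z hz z' hz' h
  rw [← curvePt_one w hz.2, ← curvePt_one w hz'.2]
  funext o
  cases o with
  | none => rfl
  | some t =>
    let q : MvPolynomial (Option τ) k := X (some t) - C (z (some t)) * X none ^ w t
    have hq : q ∈ P z := by
      show curveHom w z q = 0
      simp [q, curveHom]
    rw [h] at hq
    have h2 := congrArg (Polynomial.eval 1) (show curveHom w z' q = 0 from hq)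
    simp [q, curveHom] at h2
    simp [curvePt, sub_eq_zero.1 h2]

end Groth.Agent.CAlg9.Pencil
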