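import Groth.Agent.CAlg9.Pencil.InfinityIndex
import Groth.Agent.CAlg9.Pencil.WeightedCone
import Mathlib.Algebra.Polynomial.BigOperators
import Mathlib.Algebra.Polynomial.Monic

/-!
Finiteness of pencils with a fully specified ramification divisor, in characteristic `0` or above the degree.
-/

set_option autoImplicit false
universe u v

open Polynomial

namespace Groth.Agent.CAlg9.Pencil

section generic

variable {A : Type u} [CommRing A] {B : Type v} [CommRing B] {D : ℕ}

/-- monic polynomial of degree `D` with lower coefficients `c` -/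
noncomputable def normG (c : Fin D → A) : A[X] := X ^ D + ∑ j, C (c j) * X ^ (j : ℕ)

/-- monic polynomial of degree `D + 1` with `D`-th coefficient `0` and lower coefficients `c` -/
noncomputable def normF (c : Fin D → A) : A[X] := X ^ (D + 1) + ∑ j, C (c j) * X ^ (j : ℕ)

theorem map_normG (φ : A →+* B) (c : Fin D → A) : (normG c).map φ = normG (φ ∘ c) := by
  simp [normG, Polynomial.map_sum]

theorem map_normF (φ : A →+* B) (c : Fin D → A) : (normF c).map φ = normF (φ ∘ c) := by
  simp [normF, Polynomial.map_sum]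

theorem map_wronskian (φ : A →+* B) (a b : A[X]) : (wronskian a b).map φ = wronskian (a.map φ) (b.map φ) := by
  simp [wronskian, derivative_map]

theorem coeff_sum_low (c : Fin D → A) {i : ℕ} (hi : D ≤ i) : (∑ j, C (c j) * X ^ (j : ℕ)).coeff i = 0 := by
  rw [finsetSum_coeff]
  refine Finset.sum_eq_zero fun j _ => ?_
  rw [coeff_C_mul, coeff_X_pow, if_neg (by omega), mul_zero]

theorem coeff_sum_low' (c : Fin D → A) (i : Fin D) : (∑ j, C (c j) * X ^ (j : ℕ)).coeff i = c i := by
  rw [finsetSum_coeff, Finset.sum_eq_single i]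
  · simp
  · intro j _ hj
    rw [coeff_C_mul, coeff_X_pow, if_neg (fun h => hj (Fin.ext h.symm)), mul_zero]
  · simp

theorem coeff_normG (c : Fin D → A) (i : Fin D) : (normG c).coeff i = c i := by
  rw [normG, coeff_add, coeff_sum_low', coeff_X_pow, if_neg (by omega), zero_add]

theorem coeff_normF (c : Fin D → A) (i : Fin D) : (normF c).coeff i = c i := by
  rw [normF, coeff_add, coeff_sum_low', coeff_X_pow, if_neg (by omega), zero_add]

end generic

variable {k : Type u} [Field k] {p : ℕ} {D : ℕ}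

theorem monic_normG (c : Fin D → k) : (normG c).Monic := monic_X_pow_add (degree_sum_fin_lt c)

theorem natDegree_normG (c : Fin D → k) : (normG c).natDegree = D := by
  apply natDegree_eq_of_degree_eq_some
  rw [normG, degree_add_eq_left_of_degree_lt, degree_X_pow]
  rw [degree_X_pow]
  exact degree_sum_fin_lt c

theorem monic_normF (c : Fin D → k) : (normF c).Monic :=
  monic_X_pow_add ((degree_sum_fin_lt c).trans (by exact_mod_cast Nat.lt_succ_self D))

theorem natDegree_normF (c : Fin D → k) : (normF c).natDegree = D + 1 := by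
  apply natDegree_eq_of_degree_eq_some
  rw [normF, degree_add_eq_left_of_degree_lt, degree_X_pow]
  rw [degree_X_pow]
  exact (degree_sum_fin_lt c).trans (by exact_mod_cast Nat.lt_succ_self D)

theorem eq_normG {G : k[X]} (hm : G.Monic) (hd : G.natDegree = D) : G = normG fun j : Fin D => G.coeff j := by
  conv_lhs => rw [hm.as_sum, hd]
  rw [normG, Finset.sum_range]

theorem eq_normF {F : k[X]} (hm : F.Monic) (hd : F.natDegree = D + 1) (h0 : F.coeff D = 0) :
    F = normF fun j : Fin D => F.coeff j := by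
  conv_lhs => rw [hm.as_sum, hd]
  rw [normF, Finset.sum_range_succ, h0, map_zero, zero_mul, add_zero, Finset.sum_range]

theorem coeff_wronskian_top {G F : k[X]} (hG : G.natDegree = D) (hG1 : G.Monic)
    (hF : F.natDegree = D + 1) (hF1 : F.Monic) : (wronskian G F).coeff (D + D) = 1 := by
  have h1 : G.coeff D = 1 := hG ▸ hG1.coeff_natDegree
  have h2 : F.coeff (D + 1) = 1 := hF ▸ hF1.coeff_natDegree
  have hL : (G * derivative F).coeff (D + D) = (D : k) + 1 := by
    rw [coeff_mul_add_eq_of_natDegree_le hG.le ((natDegree_derivative_le F).trans (by omega)), coeff_derivative,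
      h1, h2, one_mul, one_mul]
  rw [wronskian, coeff_sub, hL]
  rcases Nat.eq_zero_or_pos D with h | h
  · subst h
    rw [eq_C_of_natDegree_eq_zero hG, derivative_C, zero_mul, coeff_zero, sub_zero, Nat.cast_zero, zero_add]
  · obtain ⟨m, rfl⟩ : ∃ m, D = m + 1 := ⟨D - 1, by omega⟩
    rw [show m + 1 + (m + 1) = m + (m + 2) by omega,
      coeff_mul_add_eq_of_natDegree_le ((natDegree_derivative_le G).trans (by omega)) (by omega : F.natDegree ≤ m + 2),
      coeff_derivative, h1, h2, mul_one, one_mul]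
    push_cast
    ring

theorem natCast_ne_zero_of_small [CharP k p] {d m : ℕ} (hp : p = 0 ∨ d < p) (h1 : 1 ≤ m) (hm : m ≤ d) : (m : k) ≠ 0 := by
  rw [Ne, CharP.cast_eq_zero_iff k p]
  rcases hp with rfl | hp
  · rw [zero_dvd_iff]; omega
  · exact Nat.not_dvd_of_pos_of_lt h1 (by omega)

/-- the only normalised pencil whose Wronskian is a power of `X` -/
theorem X_pow_dvd_of_wronskian_eq [CharP k p] : ∀ (D : ℕ) {G F : k[X]}, G.natDegree = D → G ≠ 0 →
    F.natDegree = D + 1 → (p = 0 ∨ D + 1 < p) → wronskian G F = X ^ (2 * D) → X ^ D ∣ G ∧ X ^ D ∣ F := by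
  intro D
  induction D with
  | zero => intros; simp
  | succ D ih =>
    intro G F hG hG0 hF hp hW
    have hW0 : wronskian G F ≠ 0 := by rw [hW]; exact pow_ne_zero _ X_ne_zero
    have hF0 : F ≠ 0 := fun h => by rw [h, natDegree_zero] at hF; omega
    by_cases hfree : G.eval 0 = 0 ∧ F.eval 0 = 0
    · obtain ⟨g, rfl⟩ : X ∣ G := X_dvd_iff.2 (by rw [coeff_zero_eq_eval_zero]; exact hfree.1)
      obtain ⟨f, rfl⟩ : X ∣ F := X_dvd_iff.2 (by rw [coeff_zero_eq_eval_zero]; exact hfree.2)
      rw [natDegree_X_mul (right_ne_zero_of_mul hG0)] at hG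
      rw [natDegree_X_mul (right_ne_zero_of_mul hF0)] at hF
      have hW' : wronskian g f = X ^ (2 * D) := by
        apply mul_left_cancel₀ (pow_ne_zero 2 (X_ne_zero (R := k)))
        rw [← pow_add, show 2 + 2 * D = 2 * (D + 1) by ring, ← hW]
        simp only [wronskian, derivative_mul, derivative_X]
        ring
      obtain ⟨h1, h2⟩ := ih (by omega) (right_ne_zero_of_mul hG0) (by omega) (hp.imp id (by omega)) hW'
      rw [pow_succ']
      exact ⟨mul_dvd_mul_left X h1, mul_dvd_mul_left X h2⟩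
    · exfalso
      have hG' : G ∈ Submodule.span k {G, F} := Submodule.subset_span (by simp)
      have hF' : F ∈ Submodule.span k {G, F} := Submodule.subset_span (by simp)
      obtain ⟨y, hy, hya⟩ : ∃ y ∈ Submodule.span k {G, F}, y.eval 0 ≠ 0 := by
        by_cases hg : G.eval 0 = 0
        · exact ⟨F, hF', fun h => hfree ⟨hg, h⟩⟩
        · exact ⟨G, hG', hg⟩
      let x : k[X] := F.eval 0 • G + (-G.eval 0) • F
      have hx : x ∈ Submodule.span k {G, F} :=
        Submodule.add_mem _ (Submodule.smul_mem _ _ hG') (Submodule.smul_mem _ _ hF')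
      have hx0 : x ≠ 0 := fun h => by
        have hh := LinearIndependent.pair_iff.1 (independent_of_natDegree_lt hG0 (by omega : G.natDegree < F.natDegree)) _ _ h
        exact hfree ⟨neg_eq_zero.1 hh.2, hh.1⟩
      have hxa : x.eval 0 = 0 := by simp only [x, eval_add, eval_smul, smul_eq_mul]; ring
      have hxd : x.natDegree ≤ D + 2 := natDegree_smul_add_le (by omega) (by omega) _ _
      have hm1 : 1 ≤ x.rootMultiplicity 0 := (rootMultiplicity_pos hx0).2 hxa
      have hm2 : x.rootMultiplicity 0 ≤ D + 2 :=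
        (natDegree_le_of_dvd (pow_rootMultiplicity_dvd x 0) hx0 |>.trans hxd |> fun h => by
          simpa [natDegree_pow] using h)
      have := (order_wronskian hW0 hx hx0 hxa hy hya).1 (natCast_ne_zero_of_small (d := D + 2) hp hm1 hm2)
      have hX : (X ^ (2 * (D + 1)) : k[X]).rootMultiplicity 0 = 2 * (D + 1) := by
        simpa using rootMultiplicity_X_sub_C_pow (0 : k) (2 * (D + 1))
      rw [hW, hX] at this
      omega

/-- the equations of normalised pencils with prescribed Wronskian -/
noncomputable def wronskianEqn {n : ℕ} (D : ℕ) (P : Fin n → k) (e : Fin n → ℕ) :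
    (MvPolynomial (Option (Bool × Fin D)) k)[X] :=
  wronskian (normG fun j => MvPolynomial.X (some (false, j))) (normF fun j => MvPolynomial.X (some (true, j)))
    - ∏ i, (X - C (MvPolynomial.X none * MvPolynomial.C (P i))) ^ (e i - 1)

noncomputable def wronskianIdeal {n : ℕ} (D : ℕ) (P : Fin n → k) (e : Fin n → ℕ) :
    Ideal (MvPolynomial (Option (Bool × Fin D)) k) :=
  Ideal.span (Set.range fun i => (wronskianEqn D P e).coeff i)

theorem mem_zeroLocus_wronskianIdeal {n : ℕ} (P : Fin n → k) (e : Fin n → ℕ) (z : Option (Bool × Fin D) → k) :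
    z ∈ MvPolynomial.zeroLocus k (wronskianIdeal D P e) ↔
      wronskian (normG fun j => z (some (false, j))) (normF fun j => z (some (true, j))) =
        ∏ i, (X - C (z none * P i)) ^ (e i - 1) := by
  have h : (wronskianEqn D P e).map (MvPolynomial.aeval (R := k) z).toRingHom =
      wronskian (normG fun j => z (some (false, j))) (normF fun j => z (some (true, j))) -
        ∏ i, (X - C (z none * P i)) ^ (e i - 1) := by
    simp [wronskianEqn, Polynomial.map_sub, map_wronskian, map_normG, map_normF, Polynomial.map_prod,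
      Function.comp_def]
  rw [← sub_eq_zero, ← h, Polynomial.ext_iff]
  simp only [coeff_map, coeff_zero]
  constructor
  · intro hz i
    exact hz _ (Ideal.subset_span ⟨i, rfl⟩)
  · intro hz q hq
    have : wronskianIdeal D P e ≤ RingHom.ker (MvPolynomial.aeval (R := k) z).toRingHom := by
      rw [wronskianIdeal, Ideal.span_le]
      rintro _ ⟨i, rfl⟩
      exact hz i
    exact this hq

theorem scale_normG (c : Fin D → k) {l : k} (hl : l ≠ 0) :
    normG (fun j => c j * l ^ (D - j : ℕ)) = C (l ^ D) * (normG c).comp (C l⁻¹ * X) := by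
  simp only [normG, add_comp, sum_comp, mul_comp, C_comp, X_pow_comp, mul_pow, ← C_pow, mul_add, Finset.mul_sum]
  congr 1
  · rw [← mul_assoc, ← C_mul, inv_pow, mul_inv_cancel₀ (pow_ne_zero _ hl), C_1, one_mul]
  · refine Finset.sum_congr rfl fun j _ => ?_
    rw [← mul_assoc, ← mul_assoc, ← C_mul, ← C_mul]
    congr 2
    have h : l ^ D = l ^ (D - j : ℕ) * l ^ (j : ℕ) := by rw [← pow_add]; congr 1; omega
    rw [h, inv_pow]
    field_simp

theorem scale_normF (c : Fin D → k) {l : k} (hl : l ≠ 0) :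
    normF (fun j => c j * l ^ (D + 1 - j : ℕ)) = C (l ^ (D + 1)) * (normF c).comp (C l⁻¹ * X) := by
  simp only [normF, add_comp, sum_comp, mul_comp, C_comp, X_pow_comp, mul_pow, ← C_pow, mul_add, Finset.mul_sum]
  congr 1
  · rw [← mul_assoc, ← C_mul, inv_pow, mul_inv_cancel₀ (pow_ne_zero _ hl), C_1, one_mul]
  · refine Finset.sum_congr rfl fun j _ => ?_
    rw [← mul_assoc, ← mul_assoc, ← C_mul, ← C_mul]
    congr 2
    have h : l ^ (D + 1) = l ^ (D + 1 - j : ℕ) * l ^ (j : ℕ) := by rw [← pow_add]; congr 1; omega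
    rw [h, inv_pow]
    field_simp

theorem wronskian_scale (G F : k[X]) (a b μ : k) :
    wronskian (C a * G.comp (C μ * X)) (C b * F.comp (C μ * X)) =
      C (a * b * μ) * (wronskian G F).comp (C μ * X) := by
  simp only [wronskian, derivative_comp, derivative_C_mul, derivative_X, mul_one, sub_comp, mul_comp, map_mul]
  ring

theorem finite_ramMaps [IsAlgClosed k] [CharP k p] {n : ℕ} (P : Fin n → k) (hP : Function.Injective P)
    (e : Fin n → ℕ) (he : ∀ i, 1 ≤ e i) (hsum : ∑ i, (e i - 1) = 2 * D) (hp : p = 0 ∨ D + 1 < p) :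
    (W4c1limliniiii.ramMaps (D + 1) P e).Finite := by
  let I := wronskianIdeal D P e
  let w : Bool × Fin D → ℕ := fun t => (if t.1 then D + 1 else D) - (t.2 : ℕ)
  have hw : ∀ t, w t ≠ 0 := by
    rintro ⟨b, j⟩
    have := j.isLt
    cases b <;> simp [w] <;> omega
  have hscale : ∀ z ∈ MvPolynomial.zeroLocus k I, z none = 1 → ∀ l : k, l ≠ 0 →
      curvePt w z l ∈ MvPolynomial.zeroLocus k I := by
    intro z hz hz1 l hl
    rw [mem_zeroLocus_wronskianIdeal] at hz ⊢
    simp only [curvePt, Option.elim_some, Option.elim_none, w, Bool.false_eq_true, if_true, if_false]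
    rw [scale_normG _ hl, scale_normF _ hl, wronskian_scale, hz, prod_comp]
    simp only [pow_comp, sub_comp, X_comp, C_comp, hz1, one_mul]
    have : l ^ D * l ^ (D + 1) * l⁻¹ = l ^ (∑ i, (e i - 1)) := by
      rw [hsum, pow_succ, ← mul_assoc, mul_assoc, mul_inv_cancel₀ hl, mul_one, ← pow_add, two_mul]
    rw [this, ← Finset.prod_pow_eq_pow_sum, map_prod, ← Finset.prod_mul_distrib]
    refine Finset.prod_congr rfl fun i _ => ?_
    rw [C_pow, ← mul_pow]
    congr 1
    rw [mul_sub, ← mul_assoc, ← C_mul, ← C_mul, mul_inv_cancel₀ hl, C_1, one_mul]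
  have hzero : ∀ z ∈ MvPolynomial.zeroLocus k I, z none = 0 → z = 0 := by
    intro z hz hz0
    rw [mem_zeroLocus_wronskianIdeal] at hz
    simp only [hz0, zero_mul, map_zero, sub_zero] at hz
    rw [Finset.prod_pow_eq_pow_sum, hsum] at hz
    obtain ⟨hG, hF⟩ := X_pow_dvd_of_wronskian_eq D (natDegree_normG _) (monic_normG _).ne_zero (natDegree_normF _) hp hz
    funext o
    rcases o with _ | ⟨b, j⟩
    · exact hz0
    · cases b
      · simpa [coeff_normG] using X_pow_dvd_iff.1 hG (j : ℕ) j.isLt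
      · simpa [coeff_normF] using X_pow_dvd_iff.1 hF (j : ℕ) j.isLt
  have hfin := finite_slice I w hw hscale hzero
  refine (hfin.image fun z => Submodule.span k
    {normG fun j => z (some (false, j)), normF fun j => z (some (true, j))}).subset ?_
  rintro V ⟨⟨hVd, hV2, ⟨F, hF, hFd⟩, -⟩, hsep, hram⟩
  have hF0 : F ≠ 0 := fun h => by rw [h, natDegree_zero] at hFd; omega
  let F₁ : k[X] := F.leadingCoeff⁻¹ • F
  have hF₁ : F₁ ∈ V := V.smul_mem _ hF
  have hF₁m : F₁.Monic := by
    rw [Monic, leadingCoeff]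
    simp only [F₁, natDegree_smul _ (inv_ne_zero (leadingCoeff_ne_zero.2 hF0)), coeff_smul, smul_eq_mul]
    exact inv_mul_cancel₀ (leadingCoeff_ne_zero.2 hF0)
  have hF₁d : F₁.natDegree = D + 1 := by
    simp only [F₁, natDegree_smul _ (inv_ne_zero (leadingCoeff_ne_zero.2 hF0)), hFd]
  obtain ⟨A, hA, B, hB, hAB⟩ := hsep
  have hABi : LinearIndependent k ![A, B] := by
    by_contra h
    exact hAB (wronskian_eq_zero_of_not_independent h)
  have hABs := eq_span_pair hV2 hA hB hABi
  obtain ⟨G, hG, hGlt, hGi⟩ : ∃ G ∈ V, G.natDegree ≤ D ∧ G ≠ 0 := by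
    obtain ⟨s, hs, hsi⟩ : ∃ s ∈ V, LinearIndependent k ![F₁, s] := by
      by_contra! h
      have key : ∀ s ∈ V, s ∈ Submodule.span k {F₁} := fun s hs => by
        have hh := h s hs
        rw [LinearIndependent.pair_iff' hF₁m.ne_zero] at hh
        push Not at hh
        obtain ⟨a, ha⟩ := hh
        exact Submodule.mem_span_singleton.2 ⟨a, ha⟩
      have := Submodule.finrank_mono (show V ≤ Submodule.span k {F₁} from key)
      rw [hV2, finrank_span_singleton hF₁m.ne_zero] at this
      omega
    refine ⟨s - s.coeff (D + 1) • F₁, V.sub_mem hs (V.smul_mem _ hF₁), ?_, fun h => ?_⟩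
    · rw [natDegree_le_iff_coeff_eq_zero]
      intro N hN
      rw [coeff_sub, coeff_smul, smul_eq_mul]
      by_cases hN' : N = D + 1
      · subst hN'
        rw [show F₁.coeff (D + 1) = 1 by rw [← hF₁d]; exact hF₁m.coeff_natDegree, mul_one, sub_self]
      · rw [coeff_eq_zero_of_natDegree_lt (by omega : F₁.natDegree < N),
          coeff_eq_zero_of_natDegree_lt ((natDegree_le_of_mem_degreeLE (hVd hs)).trans_lt (by omega)), mul_zero, sub_zero]
    · have := (LinearIndependent.pair_iff.1 hsi) (-s.coeff (D + 1)) 1 (by rw [one_smul, neg_smul, neg_add_eq_sub, h])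
      exact one_ne_zero this.2
  have hGFi := independent_of_natDegree_lt hGi (by omega : G.natDegree < F₁.natDegree)
  have hVs := eq_span_pair hV2 hG hF₁ hGFi
  have hW : wronskian G F₁ ≠ 0 := (isSeparable_span_iff _ _).1 (hVs ▸ ⟨A, hA, B, hB, hAB⟩)
  have hdvd : ∀ i, (X - C (P i)) ^ (e i - 1) ∣ wronskian G F₁ := fun i => by
    obtain ⟨x, hx, hx0, hxe⟩ := (hram i).1
    rw [← hVs] at hx
    exact pow_dvd_wronskian_of_mem hx hx0 (dvd_of_le_rootMultiplicity hxe)
  have hprod : (∏ i, (X - C (P i)) ^ (e i - 1)) ∣ wronskian G F₁ :=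
    Finset.prod_dvd_of_coprime (fun i _ j _ h => ((pairwise_coprime_X_sub_C hP) h).pow) fun i _ => hdvd i
  have hpd : (∏ i, (X - C (P i)) ^ (e i - 1)).natDegree = 2 * D := by
    rw [natDegree_prod _ _ fun i _ => pow_ne_zero _ (X_sub_C_ne_zero _)]
    simp [hsum]
  have hGd : G.natDegree = D := by
    refine le_antisymm hGlt ?_
    have h1 := natDegree_le_of_dvd hprod hW
    have h2 := natDegree_wronskian_lt_add hW
    omega
  let G₁ : k[X] := G.leadingCoeff⁻¹ • G
  have hG₁ : G₁ ∈ V := V.smul_mem _ hG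
  have hG₁m : G₁.Monic := by
    rw [Monic, leadingCoeff]
    simp only [G₁, natDegree_smul _ (inv_ne_zero (leadingCoeff_ne_zero.2 hGi)), coeff_smul, smul_eq_mul]
    exact inv_mul_cancel₀ (leadingCoeff_ne_zero.2 hGi)
  have hG₁d : G₁.natDegree = D := by
    simp only [G₁, natDegree_smul _ (inv_ne_zero (leadingCoeff_ne_zero.2 hGi)), hGd]
  let F₂ : k[X] := F₁ - F₁.coeff D • G₁
  have hlt : (F₁.coeff D • G₁).natDegree < F₁.natDegree :=
    (natDegree_smul_le _ _).trans_lt (by omega)
  have hF₂d : F₂.natDegree = D + 1 := by rw [natDegree_sub_eq_left_of_natDegree_lt hlt, hF₁d]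
  have hF₂m : F₂.Monic := hF₁m.sub_of_left (degree_lt_degree hlt)
  have hF₂0 : F₂.coeff D = 0 := by
    simp only [F₂, coeff_sub, coeff_smul, smul_eq_mul]
    rw [show G₁.coeff D = 1 by rw [← hG₁d]; exact hG₁m.coeff_natDegree, mul_one, sub_self]
  have hF₂V : F₂ ∈ V := V.sub_mem hF₁ (V.smul_mem _ hG₁)
  have hi2 := independent_of_natDegree_lt hG₁m.ne_zero (by omega : G₁.natDegree < F₂.natDegree)
  have hVs2 := eq_span_pair hV2 hG₁ hF₂V hi2
  have hW2 : wronskian G₁ F₂ = ∏ i, (X - C (P i)) ^ (e i - 1) := by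
    have hmon : (∏ i, (X - C (P i)) ^ (e i - 1)).Monic := monic_prod_of_monic _ _ fun i _ => (monic_X_sub_C _).pow _
    obtain ⟨c, hc⟩ := exists_wronskian_eq (a := G) (b := F₁) (hVs ▸ hG₁) (hVs ▸ hF₂V)
    have hd2 : (wronskian G₁ F₂).natDegree ≤ 2 * D := by
      by_cases h0 : wronskian G₁ F₂ = 0
      · simp [h0]
      · have := natDegree_wronskian_lt_add h0
        omega
    have hdvd2 : (∏ i, (X - C (P i)) ^ (e i - 1)) ∣ wronskian G₁ F₂ := by
      rw [hc, smul_eq_C_mul]; exact hprod.mul_left _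
    refine eq_of_monic_of_dvd_of_natDegree_le hmon ?_ hdvd2 (by omega)
    rw [Monic, leadingCoeff, show (wronskian G₁ F₂).natDegree = D + D from ?_]
    · exact coeff_wronskian_top hG₁d hG₁m hF₂d hF₂m
    · have h3 := coeff_wronskian_top hG₁d hG₁m hF₂d hF₂m
      exact le_antisymm (by omega) (le_natDegree_of_ne_zero (by rw [h3]; exact one_ne_zero))
  refine ⟨fun o => o.elim 1 fun t => if t.1 then F₂.coeff t.2 else G₁.coeff t.2, ⟨?_, rfl⟩, ?_⟩
  · rw [mem_zeroLocus_wronskianIdeal]
    simpa [← eq_normG hG₁m hG₁d, ← eq_normF hF₂m hF₂d hF₂0] using hW2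
  · simpa [← eq_normG hG₁m hG₁d, ← eq_normF hF₂m hF₂d hF₂0] using hVs2

end Groth.Agent.CAlg9.Pencil
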