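import Groth.Agent.CAlg9.Pencil.Basic
import Mathlib.FieldTheory.IsAlgClosed.Basic
import Mathlib.Algebra.CharP.Defs

/-!
The family of pencils `span {G, F + t X ^ p G}` with constant Wronskian.
-/

set_option autoImplicit false
universe u

open Polynomial

namespace Groth.Agent.CAlg9.Pencil

variable {k : Type u} [Field k] {p d : ℕ}

theorem rootMultiplicity_smul {a : k} {c : k} (hc : c ≠ 0) {q : k[X]} (hq : q ≠ 0) :
    rootMultiplicity a (c • q) = rootMultiplicity a q := by
  rw [smul_eq_C_mul, rootMultiplicity_mul (mul_ne_zero (C_ne_zero.2 hc) hq), rootMultiplicity_C, zero_add]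

theorem order_wronskian {a : k} {A B x y : k[X]} (hW : wronskian A B ≠ 0)
    (hx : x ∈ Submodule.span k {A, B}) (hx0 : x ≠ 0) (hxa : x.eval a = 0)
    (hy : y ∈ Submodule.span k {A, B}) (hya : y.eval a ≠ 0) :
    ((x.rootMultiplicity a : k) ≠ 0 →
      x.rootMultiplicity a = (wronskian A B).rootMultiplicity a + 1) ∧
    ((x.rootMultiplicity a : k) = 0 → x.rootMultiplicity a ≤ (wronskian A B).rootMultiplicity a) := by
  have hli : LinearIndependent k ![A, B] := by
    by_contra h
    exact hW (wronskian_eq_zero_of_not_independent h)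
  have hli' : LinearIndependent k ![y, x] := by
    rw [LinearIndependent.pair_iff]
    intro α β h
    have h1 := congrArg (Polynomial.eval a) h
    rw [eval_add, eval_smul, eval_smul, hxa, smul_zero, add_zero, eval_zero, smul_eq_mul] at h1
    have hα : α = 0 := by simpa [hya] using h1
    rw [hα, zero_smul, zero_add] at h
    exact ⟨hα, by simpa [hx0] using h⟩
  have hspan : Submodule.span k {y, x} = Submodule.span k {A, B} :=
    eq_span_pair (finrank_span_pair hli) hy hx hli'
  have hA : A ∈ Submodule.span k {y, x} := by rw [hspan]; exact Submodule.subset_span (by simp)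
  have hB : B ∈ Submodule.span k {y, x} := by rw [hspan]; exact Submodule.subset_span (by simp)
  obtain ⟨c, hc⟩ := exists_wronskian_eq hA hB
  have hc0 : c ≠ 0 := fun h => hW (by rw [hc, h, zero_smul])
  have hyx : wronskian y x ≠ 0 := fun h => hW (by rw [hc, h, smul_zero])
  rw [hc, rootMultiplicity_smul hc0 hyx]
  have hm : 1 ≤ x.rootMultiplicity a := (rootMultiplicity_pos hx0).2 hxa
  obtain ⟨u, hu, hua⟩ := exists_eq_pow_rootMultiplicity_mul_and_not_dvd x hx0 a
  obtain ⟨r, hr, hra, hr0⟩ := wronskian_local (a := a) (s := y) (u := u) hm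
  rw [← hu] at hr
  have hr' : r ≠ 0 := fun h => hyx (by rw [hr, h, mul_zero])
  have hua' : u.eval a ≠ 0 := fun h => hua (dvd_iff_isRoot.2 h)
  have hmul : (wronskian y x).rootMultiplicity a = x.rootMultiplicity a - 1 + r.rootMultiplicity a := by
    rw [hr, rootMultiplicity_mul (mul_ne_zero (pow_ne_zero _ (X_sub_C_ne_zero a)) hr'),
      rootMultiplicity_X_sub_C_pow]
  constructor
  · intro h
    have : r.rootMultiplicity a = 0 := by
      apply rootMultiplicity_eq_zero
      show ¬ r.eval a = 0
      rw [hra]
      exact mul_ne_zero (mul_ne_zero h hya) hua'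
    omega
  · intro h
    have : 1 ≤ r.rootMultiplicity a := (rootMultiplicity_pos hr').2 (dvd_iff_isRoot.1 (hr0 h))
    omega

theorem hasRamIdx_of_wronskian_eq [CharP k p] {a : k} {e : ℕ} {A B A' B' : k[X]} (he : 1 ≤ e) (hep : e < p)
    (hW : wronskian A B ≠ 0) (hWW : wronskian A' B' = wronskian A B)
    (h : W4c1limliniiii.HasRamIdx (Submodule.span k {A, B}) a e)
    (hfree : ∃ s ∈ Submodule.span k {A, B}, s.eval a ≠ 0)
    (hfree' : ∃ s ∈ Submodule.span k {A', B'}, s.eval a ≠ 0) :
    W4c1limliniiii.HasRamIdx (Submodule.span k {A', B'}) a e := by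
  obtain ⟨y, hy, hya⟩ := hfree
  obtain ⟨y', hy', hya'⟩ := hfree'
  obtain ⟨⟨x, hx, hx0, hxe⟩, hle⟩ := h
  have hxm : x.rootMultiplicity a = e := le_antisymm (hle x hx hx0) hxe
  have hxa : x.eval a = 0 := ((rootMultiplicity_pos hx0).1 (by omega))
  have he0 : (e : k) ≠ 0 := by
    rw [Ne, CharP.cast_eq_zero_iff k p]
    exact Nat.not_dvd_of_pos_of_lt he hep
  have hord := (order_wronskian hW hx hx0 hxa hy hya).1 (by rw [hxm]; exact he0)
  have hW' : wronskian A' B' ≠ 0 := by rw [hWW]; exact hW
  have key : ∀ z ∈ Submodule.span k {A', B'}, z ≠ 0 → z.eval a = 0 → z.rootMultiplicity a = e := by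
    intro z hz hz0 hza
    have h1 := order_wronskian hW' hz hz0 hza hy' hya'
    rw [hWW] at h1
    by_cases hc : (z.rootMultiplicity a : k) = 0
    · have h2 := h1.2 hc
      have h3 := Nat.le_of_dvd ((rootMultiplicity_pos hz0).2 hza) ((CharP.cast_eq_zero_iff k p _).1 hc)
      omega
    · have := h1.1 hc
      omega
  refine ⟨?_, fun s hs hs0 => ?_⟩
  · have hA : A' ∈ Submodule.span k {A', B'} := Submodule.subset_span (by simp)
    have hB : B' ∈ Submodule.span k {A', B'} := Submodule.subset_span (by simp)
    have hli : LinearIndependent k ![A', B'] := by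
      by_contra h0
      exact hW' (wronskian_eq_zero_of_not_independent h0)
    by_cases hAa : A'.eval a = 0
    · exact ⟨A', hA, by simpa using hli.ne_zero 0, (key A' hA (by simpa using hli.ne_zero 0) hAa).ge⟩
    · have hz : B'.eval a • A' + (-A'.eval a) • B' ∈ Submodule.span k {A', B'} :=
        Submodule.add_mem _ (Submodule.smul_mem _ _ hA) (Submodule.smul_mem _ _ hB)
      have hz0 : B'.eval a • A' + (-A'.eval a) • B' ≠ 0 := fun h0 =>
        hAa (neg_eq_zero.1 (LinearIndependent.pair_iff.1 hli _ _ h0).2)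
      refine ⟨_, hz, hz0, (key _ hz hz0 ?_).ge⟩
      simp only [eval_add, eval_smul, smul_eq_mul]
      ring
  · by_cases hsa : s.eval a = 0
    · exact (key s hs hs0 hsa).le
    · rw [rootMultiplicity_eq_zero (show ¬ IsRoot s a from hsa)]
      exact Nat.zero_le e

theorem natDegree_smul_add {F G : k[X]} {α β : k} (hGF : G.natDegree < F.natDegree) (hβ : β ≠ 0) :
    (α • G + β • F).natDegree = F.natDegree := by
  rw [natDegree_add_eq_right_of_natDegree_lt] <;> rw [natDegree_smul _ hβ]
  exact (natDegree_smul_le _ _).trans_lt hGF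

theorem independent_of_natDegree_lt {F G : k[X]} (hG : G ≠ 0) (hGF : G.natDegree < F.natDegree) :
    LinearIndependent k ![G, F] := by
  rw [LinearIndependent.pair_iff]
  intro α β h
  by_cases hβ : β = 0
  · rw [hβ, zero_smul, add_zero] at h
    exact ⟨by simpa [hG] using h, hβ⟩
  · have := natDegree_smul_add (α := α) hGF hβ
    rw [h, natDegree_zero] at this
    omega

/-- the member `F + t X ^ p G` -/
noncomputable def twist (p : ℕ) (F G : k[X]) (t : k) : k[X] := F + t • (X ^ p * G)

theorem natDegree_twist {F G : k[X]} (t : k) (hG : G ≠ 0) (h : p + G.natDegree < F.natDegree) :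
    (twist p F G t).natDegree = F.natDegree := by
  rw [twist, natDegree_add_eq_left_of_natDegree_lt]
  refine (natDegree_smul_le _ _).trans_lt ?_
  rwa [natDegree_mul (pow_ne_zero _ X_ne_zero) hG, natDegree_X_pow]

theorem wronskian_twist [CharP k p] (F G : k[X]) (t : k) :
    wronskian G (twist p F G t) = wronskian G F := by
  have hX : derivative ((X : k[X]) ^ p) = 0 := by
    rw [derivative_X_pow, CharP.cast_eq_zero k p, map_zero, zero_mul]
  simp only [twist, wronskian, smul_eq_C_mul, derivative_add, derivative_mul, derivative_C, hX]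
  ring

theorem infinite_twist [IsAlgClosed k] [CharP k p] (hp : 1 ≤ p) {n : ℕ} (P : Fin n → k) (e : Fin n → ℕ) (E : ℕ)
    (he : ∀ i, 1 ≤ e i) (hlt : ∀ i, e i < p) (hpE : p < E) (V : Submodule k k[X])
    (hV : V ∈ W4c1limliniiii.ramMaps d P e) (hinf : W4c1limliniiii.HasRamIdxInf d V E) :
    {W : Submodule k k[X] | W ∈ W4c1limliniiii.ramMaps d P e ∧
        W4c1limliniiii.HasRamIdxInf d W E}.Infinite := by
  obtain ⟨⟨hVd, hV2, ⟨F, hF, hFd⟩, hfree⟩, hsep, hram⟩ := hV
  obtain ⟨⟨G, hG, hG0, hGle⟩, hGge⟩ := hinf
  have hGd : G.natDegree + E = d := le_antisymm hGle (hGge G hG hG0)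
  have hGF : G.natDegree < F.natDegree := by omega
  obtain rfl : Submodule.span k {G, F} = V := eq_span_pair hV2 hG hF (independent_of_natDegree_lt hG0 hGF)
  have hW : wronskian G F ≠ 0 := (isSeparable_span_iff G F).1 hsep
  have hdeg : ∀ t, (twist p F G t).natDegree = d := fun t => by rw [natDegree_twist t hG0 (by omega), hFd]
  have hli : ∀ t, LinearIndependent k ![G, twist p F G t] := fun t =>
    independent_of_natDegree_lt hG0 (by rw [hdeg t]; omega)
  have hfree' : ∀ t a, ∃ s ∈ Submodule.span k {G, twist p F G t}, s.eval a ≠ 0 := by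
    intro t a
    by_cases hGa : G.eval a = 0
    · refine ⟨twist p F G t, Submodule.subset_span (by simp), ?_⟩
      simp only [twist, eval_add, eval_smul, eval_mul, hGa, mul_zero, smul_zero, add_zero]
      intro hFa
      obtain ⟨s, hs, hsa⟩ := hfree a
      obtain ⟨α, β, rfl⟩ := Submodule.mem_span_pair.1 hs
      exact hsa (by simp [hGa, hFa])
    · exact ⟨G, Submodule.subset_span (by simp), hGa⟩
  refine Set.Infinite.mono (s := Set.range fun t : k => Submodule.span k {G, twist p F G t}) ?_ ?_
  · rintro W ⟨t, rfl⟩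
    refine ⟨⟨⟨span_pair_le_degreeLE (by omega) (hdeg t).le, finrank_span_pair (hli t),
      ⟨twist p F G t, Submodule.subset_span (by simp), hdeg t⟩, hfree' t⟩,
      (isSeparable_span_iff _ _).2 (by rw [wronskian_twist]; exact hW), fun i =>
      hasRamIdx_of_wronskian_eq (he i) (hlt i) hW (wronskian_twist F G t) (hram i) (hfree (P i)) (hfree' t (P i))⟩,
      ⟨G, Submodule.subset_span (by simp), hG0, hGle⟩, fun s hs hs0 => ?_⟩
    obtain ⟨α, β, rfl⟩ := Submodule.mem_span_pair.1 hs
    by_cases hβ : β = 0
    · rw [hβ, zero_smul, add_zero] at hs0 ⊢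
      have hα : α ≠ 0 := fun h => hs0 (by rw [h, zero_smul])
      rw [natDegree_smul _ hα]
      omega
    · rw [natDegree_smul_add (by rw [hdeg t]; omega) hβ, hdeg t]
      omega
  · refine Set.infinite_range_of_injective fun t t' h => ?_
    by_contra hne
    have h1 : twist p F G t' ∈ Submodule.span k {G, twist p F G t} := by
      have : twist p F G t' ∈ Submodule.span k {G, twist p F G t'} := Submodule.subset_span (by simp)
      exact h.symm.le this
    obtain ⟨α, β, h2⟩ := Submodule.mem_span_pair.1 h1
    have h3 : (X : k[X]) ^ p * G ∈ Submodule.span k {G, F} := by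
      have hF' : F ∈ Submodule.span k {G, F} := Submodule.subset_span (by simp)
      have hG' : G ∈ Submodule.span k {G, F} := Submodule.subset_span (by simp)
      by_cases hb : β * t = t'
      · have hβ : (1 - β) • F = α • G := by
          simp only [twist, smul_add, smul_smul, hb] at h2
          rw [sub_smul, one_smul]
          linear_combination (norm := module) -h2
        have := LinearIndependent.pair_iff.1 (independent_of_natDegree_lt hG0 hGF) (-α) (1 - β)
          (by rw [hβ, neg_smul, neg_add_cancel])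
        exact absurd hb (by rw [← sub_eq_zero.1 this.2, one_mul]; exact hne)
      · have h4 : (β * t - t') • ((X : k[X]) ^ p * G) = (1 - β) • F + (-α) • G := by
          simp only [twist, smul_add, smul_smul] at h2
          linear_combination (norm := module) h2
        rw [← inv_smul_smul₀ (sub_ne_zero.2 hb) ((X : k[X]) ^ p * G), h4]
        exact Submodule.smul_mem _ _ (Submodule.add_mem _ (Submodule.smul_mem _ _ hF') (Submodule.smul_mem _ _ hG'))
    obtain ⟨γ, δ, h5⟩ := Submodule.mem_span_pair.1 h3
    have h6 := congrArg natDegree h5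
    rw [natDegree_mul (pow_ne_zero _ X_ne_zero) hG0, natDegree_X_pow] at h6
    by_cases hδ : δ = 0
    · rw [hδ, zero_smul, add_zero] at h6
      have := natDegree_smul_le γ G
      omega
    · rw [natDegree_smul_add hGF hδ] at h6
      omega

end Groth.Agent.CAlg9.Pencil
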