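import Groth.Agent.CAlg9.Pencil.Basic
import Mathlib.Algebra.Ring.Divisibility.Lemmas

/-!
Pencils with prescribed vanishing orders at three points.
-/

set_option autoImplicit false
universe u

open Polynomial

namespace Groth.Agent.CAlg9.Pencil

variable {k : Type u} [Field k] {d : ℕ} {P : Fin 3 → k} {e : Fin 3 → ℕ}

variable (d P e) in
/-- pairs of polynomials whose members with high vanishing are the two entries and their sum -/
noncomputable def tripleSub : Submodule k (k[X] × k[X]) where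
  carrier := {v | v.1.natDegree ≤ d ∧ v.2.natDegree ≤ d ∧ (X - C (P 0)) ^ e 0 ∣ v.1 ∧
    (X - C (P 1)) ^ e 1 ∣ v.2 ∧ (X - C (P 2)) ^ e 2 ∣ v.1 + v.2}
  zero_mem' := by simp
  add_mem' := by
    rintro v w ⟨a1, a2, a3, a4, a5⟩ ⟨b1, b2, b3, b4, b5⟩
    exact ⟨(natDegree_add_le _ _).trans (max_le a1 b1), (natDegree_add_le _ _).trans (max_le a2 b2),
      dvd_add a3 b3, dvd_add a4 b4, by simpa [add_add_add_comm] using dvd_add a5 b5⟩
  smul_mem' := by
    rintro c v ⟨a1, a2, a3, a4, a5⟩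
    exact ⟨(natDegree_smul_le _ _).trans a1, (natDegree_smul_le _ _).trans a2, dvd_smul_of_dvd c a3,
      dvd_smul_of_dvd c a4, by
        show _ ∣ c • v.1 + c • v.2
        rw [← smul_add]; exact dvd_smul_of_dvd c a5⟩

variable (d P e) in
/-- conditions on a pencil: degree bound and prescribed vanishing -/
def IsCandidate (V : Submodule k k[X]) : Prop :=
  V ≤ degreeLE k (d : WithBot ℕ) ∧ Module.finrank k V = 2 ∧
    ∀ i, ∃ s ∈ V, s ≠ 0 ∧ e i ≤ rootMultiplicity (P i) s

section

variable (hP : Function.Injective P) (hed : ∀ i, e i ≤ d) (hsum : e 0 + e 1 + e 2 = 2 * d + 1)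
include hP hed hsum

theorem eq_zero_of_dvd_two {i j : Fin 3} (hij : i ≠ j) {s : k[X]} (hs : s.natDegree ≤ d)
    (hi : (X - C (P i)) ^ e i ∣ s) (hj : (X - C (P j)) ^ e j ∣ s) : s = 0 := by
  by_contra h0
  have hne : P i ≠ P j := fun h => hij (hP h)
  have hinj : Function.Injective ![P i, P j] := by
    intro x y hxy
    fin_cases x <;> fin_cases y <;> simp_all [eq_comm]
  have hle := sum_le_natDegree hinj ![e i, e j] h0 (Fin.forall_fin_two.2 ⟨hi, hj⟩)
  rw [Fin.sum_univ_two] at hle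
  simp at hle
  have hth : d + 1 ≤ e i + e j := by
    have h0' := hed 0
    have h1' := hed 1
    have h2' := hed 2
    fin_cases i <;> fin_cases j <;> simp at hij ⊢ <;> omega
  omega

theorem snd_eq_zero {v : k[X] × k[X]} (hv : v ∈ tripleSub d P e) (h : v.1 = 0) : v.2 = 0 :=
  eq_zero_of_dvd_two hP hed hsum (i := 1) (j := 2) (by decide) hv.2.1 hv.2.2.2.1 (by simpa [h] using hv.2.2.2.2)

theorem fst_eq_zero {v : k[X] × k[X]} (hv : v ∈ tripleSub d P e) (h : v.2 = 0) : v.1 = 0 :=
  eq_zero_of_dvd_two hP hed hsum (i := 0) (j := 2) (by decide) hv.1 hv.2.2.1 (by simpa [h] using hv.2.2.2.2)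

theorem independent_of_mem {v : k[X] × k[X]} (hv : v ∈ tripleSub d P e) (h0 : v ≠ 0) :
    LinearIndependent k ![v.1, v.2] := by
  have h1 : v.1 ≠ 0 := fun h => h0 (Prod.ext h (snd_eq_zero hP hed hsum hv h))
  have h2 : v.2 ≠ 0 := fun h => h0 (Prod.ext (fst_eq_zero hP hed hsum hv h) h)
  rw [LinearIndependent.pair_iff]
  intro s t hst
  by_cases hs : s = 0
  · refine ⟨hs, ?_⟩
    rw [hs, zero_smul, zero_add, smul_eq_zero] at hst
    exact hst.resolve_right h2
  · exfalso
    apply h1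
    refine eq_zero_of_dvd_two hP hed hsum (i := 0) (j := 1) (by decide) hv.1 hv.2.2.1 ?_
    have : v.1 = (-(t / s)) • v.2 := by
      have h3 : s⁻¹ • (s • v.1 + t • v.2) = 0 := by rw [hst, smul_zero]
      rw [smul_add, smul_smul, smul_smul, inv_mul_cancel₀ hs, one_smul, add_eq_zero_iff_eq_neg] at h3
      rw [h3, neg_smul, div_eq_inv_mul]
    rw [this]
    exact dvd_smul_of_dvd _ hv.2.2.2.1

theorem isCandidate_span {v : k[X] × k[X]} (hv : v ∈ tripleSub d P e) (h0 : v ≠ 0) :
    IsCandidate d P e (Submodule.span k {v.1, v.2}) := by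
  have hli := independent_of_mem hP hed hsum hv h0
  refine ⟨span_pair_le_degreeLE hv.1 hv.2.1, finrank_span_pair hli, ?_⟩
  have h1 : v.1 ≠ 0 := by simpa using hli.ne_zero 0
  have h2 : v.2 ≠ 0 := by simpa using hli.ne_zero 1
  have h3 : v.1 + v.2 ≠ 0 := fun h => by
    have := (LinearIndependent.pair_iff.1 hli) 1 1 (by rw [one_smul, one_smul, h])
    exact one_ne_zero this.1
  intro i
  fin_cases i
  · exact ⟨v.1, Submodule.subset_span (by simp), h1, (le_rootMultiplicity_iff h1).2 hv.2.2.1⟩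
  · exact ⟨v.2, Submodule.subset_span (by simp), h2, (le_rootMultiplicity_iff h2).2 hv.2.2.2.1⟩
  · exact ⟨v.1 + v.2, add_mem (Submodule.subset_span (by simp)) (Submodule.subset_span (by simp)), h3,
      (le_rootMultiplicity_iff h3).2 hv.2.2.2.2⟩

theorem exists_span_eq {V : Submodule k k[X]} (hV : IsCandidate d P e V) :
    ∃ v ∈ tripleSub d P e, v ≠ 0 ∧ Submodule.span k {v.1, v.2} = V := by
  obtain ⟨hle, hfr, hs⟩ := hV
  obtain ⟨s₀, m₀, n₀, r₀⟩ := hs 0
  obtain ⟨s₁, m₁, n₁, r₁⟩ := hs 1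
  obtain ⟨s₂, m₂, n₂, r₂⟩ := hs 2
  have hd : ∀ {s}, s ∈ V → s.natDegree ≤ d := fun h => natDegree_le_of_mem_degreeLE (hle h)
  have hli : LinearIndependent k ![s₀, s₁] := by
    rw [LinearIndependent.pair_iff]
    intro a b hab
    by_cases ha : a = 0
    · refine ⟨ha, ?_⟩
      rw [ha, zero_smul, zero_add, smul_eq_zero] at hab
      exact hab.resolve_right n₁
    · exfalso
      apply n₀
      have h1 : (X - C (P 1)) ^ e 1 ∣ a • s₀ := by
        rw [show a • s₀ = -(b • s₁) from eq_neg_of_add_eq_zero_left hab]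
        exact (dvd_smul_of_dvd b (dvd_of_le_rootMultiplicity r₁)).neg_right
      refine eq_zero_of_dvd_two hP hed hsum (i := 0) (j := 1) (by decide) (hd m₀) (dvd_of_le_rootMultiplicity r₀) ?_
      have := dvd_smul_of_dvd a⁻¹ h1
      rwa [smul_smul, inv_mul_cancel₀ ha, one_smul] at this
  have hspan := eq_span_pair hfr m₀ m₁ hli
  obtain ⟨a, b, hab⟩ := Submodule.mem_span_pair.1 (hspan.symm ▸ m₂ : s₂ ∈ Submodule.span k {s₀, s₁})
  have ha : a ≠ 0 := fun ha => n₂ (eq_zero_of_dvd_two hP hed hsum (i := 1) (j := 2) (by decide) (hd m₂)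
    (by rw [← hab, ha, zero_smul, zero_add]; exact dvd_smul_of_dvd b (dvd_of_le_rootMultiplicity r₁))
    (dvd_of_le_rootMultiplicity r₂))
  have hb : b ≠ 0 := fun hb => n₂ (eq_zero_of_dvd_two hP hed hsum (i := 0) (j := 2) (by decide) (hd m₂)
    (by rw [← hab, hb, zero_smul, add_zero]; exact dvd_smul_of_dvd a (dvd_of_le_rootMultiplicity r₀))
    (dvd_of_le_rootMultiplicity r₂))
  refine ⟨(a • s₀, b • s₁), ⟨(natDegree_smul_le _ _).trans (hd m₀), (natDegree_smul_le _ _).trans (hd m₁),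
    dvd_smul_of_dvd a (dvd_of_le_rootMultiplicity r₀), dvd_smul_of_dvd b (dvd_of_le_rootMultiplicity r₁),
    by rw [hab]; exact dvd_of_le_rootMultiplicity r₂⟩, ?_, ?_⟩
  · intro h
    exact n₀ ((smul_eq_zero.1 (congrArg Prod.fst h)).resolve_left ha)
  · refine eq_span_pair hfr (V.smul_mem a m₀) (V.smul_mem b m₁) ?_
    rw [LinearIndependent.pair_iff] at hli ⊢
    intro s t hst
    rw [smul_smul, smul_smul] at hst
    obtain ⟨h1, h2⟩ := hli _ _ hst
    exact ⟨(mul_eq_zero.1 h1).resolve_right ha, (mul_eq_zero.1 h2).resolve_right hb⟩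

theorem eq_smul_of_span_eq {v w : k[X] × k[X]} (hv : v ∈ tripleSub d P e) (hw : w ∈ tripleSub d P e)
    (hv0 : v ≠ 0) (heq : Submodule.span k {v.1, v.2} = Submodule.span k {w.1, w.2}) : ∃ c : k, w = c • v := by
  have hli := independent_of_mem hP hed hsum hv hv0
  have hmem : ∀ z ∈ ({w.1, w.2} : Set k[X]), ∃ a b : k, a • v.1 + b • v.2 = z := fun z hz =>
    Submodule.mem_span_pair.1 (heq.symm ▸ Submodule.subset_span hz)
  obtain ⟨a, b, h1⟩ := hmem w.1 (by simp)
  obtain ⟨c, c', h2⟩ := hmem w.2 (by simp)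
  have hb : b = 0 := by
    by_contra hb
    refine (by simpa using hli.ne_zero 1 : v.2 ≠ 0)
      (eq_zero_of_dvd_two hP hed hsum (i := 0) (j := 1) (by decide) hv.2.1 ?_ hv.2.2.2.1)
    have h3 : (X - C (P 0)) ^ e 0 ∣ b • v.2 := by
      rw [show b • v.2 = w.1 - a • v.1 by rw [← h1, add_sub_cancel_left]]
      exact dvd_sub hw.2.2.1 (dvd_smul_of_dvd a hv.2.2.1)
    have := dvd_smul_of_dvd b⁻¹ h3
    rwa [smul_smul, inv_mul_cancel₀ hb, one_smul] at this
  have hc : c = 0 := by
    by_contra hc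
    refine (by simpa using hli.ne_zero 0 : v.1 ≠ 0)
      (eq_zero_of_dvd_two hP hed hsum (i := 0) (j := 1) (by decide) hv.1 hv.2.2.1 ?_)
    have h3 : (X - C (P 1)) ^ e 1 ∣ c • v.1 := by
      rw [show c • v.1 = w.2 - c' • v.2 by rw [← h2, add_sub_cancel_right]]
      exact dvd_sub hw.2.2.2.1 (dvd_smul_of_dvd c' hv.2.2.2.1)
    have := dvd_smul_of_dvd c⁻¹ h3
    rwa [smul_smul, inv_mul_cancel₀ hc, one_smul] at this
  rw [hb, zero_smul, add_zero] at h1
  rw [hc, zero_smul, zero_add] at h2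
  have hac : c' = a := by
    by_contra hne
    refine (by simpa using hli.ne_zero 1 : v.2 ≠ 0)
      (eq_zero_of_dvd_two hP hed hsum (i := 1) (j := 2) (by decide) hv.2.1 hv.2.2.2.1 ?_)
    have h3 : (X - C (P 2)) ^ e 2 ∣ (c' - a) • v.2 := by
      rw [show (c' - a) • v.2 = (w.1 + w.2) - a • (v.1 + v.2) by rw [← h1, ← h2, sub_smul, smul_add]; abel]
      exact dvd_sub hw.2.2.2.2 (dvd_smul_of_dvd a hv.2.2.2.2)
    have := dvd_smul_of_dvd (c' - a)⁻¹ h3
    rwa [smul_smul, inv_mul_cancel₀ (sub_ne_zero.2 hne), one_smul] at this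
  exact ⟨a, Prod.ext (by simp [h1]) (by simp [← hac, h2])⟩

theorem tripleSub_ne_bot : tripleSub d P e ≠ ⊥ := by
  obtain ⟨n₀, hn₀⟩ : ∃ n, d = e 0 + n := ⟨d - e 0, by have := hed 0; omega⟩
  obtain ⟨n₁, hn₁⟩ : ∃ n, d = e 1 + n := ⟨d - e 1, by have := hed 1; omega⟩
  let A := Polynomial.degreeLT k (n₀ + 1)
  let B := Polynomial.degreeLT k (n₁ + 1)
  let N := Polynomial.degreeLT k (e 2)
  let q : k[X] := (X - C (P 2)) ^ e 2
  have hq : q.Monic := (monic_X_sub_C _).pow _
  let L : (A × B) →ₗ[k] k[X] := (Polynomial.modByMonicHom q).comp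
    ((LinearMap.mulLeft k ((X - C (P 0)) ^ e 0)).comp (A.subtype.comp (LinearMap.fst k A B)) +
      (LinearMap.mulLeft k ((X - C (P 1)) ^ e 1)).comp (B.subtype.comp (LinearMap.snd k A B)))
  have hL : ∀ z, L z ∈ N := fun z => by
    rw [Polynomial.mem_degreeLT]
    refine (degree_modByMonic_lt _ hq).trans_le ?_
    rw [degree_pow, degree_X_sub_C]
    simp
  have : Module.Finite k A := Module.Finite.equiv (Polynomial.degreeLTEquiv k _).symm
  have : Module.Finite k B := Module.Finite.equiv (Polynomial.degreeLTEquiv k _).symm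
  have : Module.Finite k N := Module.Finite.equiv (Polynomial.degreeLTEquiv k _).symm
  have hlt : Module.finrank k N < Module.finrank k (A × B) := by
    rw [Module.finrank_prod, (Polynomial.degreeLTEquiv k (n₀ + 1)).finrank_eq,
      (Polynomial.degreeLTEquiv k (n₁ + 1)).finrank_eq, (Polynomial.degreeLTEquiv k (e 2)).finrank_eq,
      Module.finrank_fin_fun, Module.finrank_fin_fun, Module.finrank_fin_fun]
    omega
  obtain ⟨⟨a, b⟩, hab, hne⟩ := (Submodule.ne_bot_iff _).1
    (LinearMap.ker_ne_bot_of_finrank_lt (f := L.codRestrict N hL) hlt)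
  rw [Submodule.ne_bot_iff]
  have ha : (a : k[X]).natDegree ≤ n₀ := by
    by_cases h : (a : k[X]) = 0
    · simp [h]
    · exact Nat.lt_succ_iff.1 ((natDegree_lt_iff_degree_lt h).2 (Polynomial.mem_degreeLT.1 a.2))
  have hb : (b : k[X]).natDegree ≤ n₁ := by
    by_cases h : (b : k[X]) = 0
    · simp [h]
    · exact Nat.lt_succ_iff.1 ((natDegree_lt_iff_degree_lt h).2 (Polynomial.mem_degreeLT.1 b.2))
  refine ⟨((X - C (P 0)) ^ e 0 * (a : k[X]), (X - C (P 1)) ^ e 1 * (b : k[X])), ⟨?_, ?_, dvd_mul_right _ _, dvd_mul_right _ _, ?_⟩, ?_⟩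
  · refine natDegree_mul_le.trans ?_
    rw [natDegree_pow, natDegree_X_sub_C, mul_one]
    omega
  · refine natDegree_mul_le.trans ?_
    rw [natDegree_pow, natDegree_X_sub_C, mul_one]
    omega
  · exact (modByMonic_eq_zero_iff_dvd hq).1 (congrArg Subtype.val hab)
  · intro h
    apply hne
    have h1 := congrArg Prod.fst h
    have h2 := congrArg Prod.snd h
    simp only [Prod.fst_zero, Prod.snd_zero, mul_eq_zero, pow_ne_zero _ (X_sub_C_ne_zero _), false_or] at h1 h2
    exact Prod.ext (Subtype.ext h1) (Subtype.ext h2)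

/-- a base-point-free pencil of full degree is the only candidate -/
theorem eq_smul_of_pencil [IsAlgClosed k] {v w : k[X] × k[X]} (hv : v ∈ tripleSub d P e)
    (hw : w ∈ tripleSub d P e) (hpen : W4c1limliniiii.IsPencil d (Submodule.span k {v.1, v.2})) :
    ∃ c : k, w = c • v := by
  obtain ⟨hle, hfr, ⟨s, hsV, hsd⟩, hbpf⟩ := hpen
  have hdet : v.1 * w.2 = v.2 * w.1 := by
    by_contra hne
    have h0 : v.1 * w.2 - v.2 * w.1 ≠ 0 := sub_ne_zero.2 hne
    have hdeg : (v.1 * w.2 - v.2 * w.1).natDegree ≤ 2 * d := by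
      refine (natDegree_sub_le _ _).trans (max_le ?_ ?_)
      · exact natDegree_mul_le.trans (by have := hv.1; have := hw.2.1; omega)
      · exact natDegree_mul_le.trans (by have := hv.2.1; have := hw.1; omega)
    have hle' := sum_le_natDegree hP e h0 fun i => by
      fin_cases i
      · exact dvd_sub (dvd_mul_of_dvd_left hv.2.2.1 _) (dvd_mul_of_dvd_right hw.2.2.1 _)
      · exact dvd_sub (dvd_mul_of_dvd_right hw.2.2.2.1 _) (dvd_mul_of_dvd_left hv.2.2.2.1 _)
      · rw [show v.1 * w.2 - v.2 * w.1 = v.1 * (w.1 + w.2) - (v.1 + v.2) * w.1 by ring]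
        exact dvd_sub (dvd_mul_of_dvd_right hw.2.2.2.2 _) (dvd_mul_of_dvd_left hv.2.2.2.2 _)
    rw [Fin.sum_univ_three] at hle'
    omega
  have hcop : IsCoprime v.1 v.2 := by
    refine (isCoprime_iff_aeval_ne_zero_of_isAlgClosed k k v.1 v.2).2 fun a => ?_
    by_contra h
    push Not at h
    obtain ⟨t, ht, hta⟩ := hbpf a
    obtain ⟨α, β, rfl⟩ := Submodule.mem_span_pair.1 ht
    simp at h
    exact hta (by simp [h.1, h.2])
  have hdvd : v.1 ∣ w.1 := hcop.dvd_of_dvd_mul_left ⟨w.2, hdet.symm⟩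
  obtain ⟨u, hu⟩ := hdvd
  have hdeg : v.1.natDegree = d ∨ v.2.natDegree = d := by
    obtain ⟨α, β, rfl⟩ := Submodule.mem_span_pair.1 hsV
    by_contra h
    push Not at h
    have h1 : v.1.natDegree ≤ d - 1 := by have := hv.1; omega
    have h2 : v.2.natDegree ≤ d - 1 := by have := hv.2.1; omega
    have := natDegree_smul_add_le h1 h2 α β
    have := hed 0; have := hed 1; have := hed 2
    omega
  by_cases hv1 : v.1 = 0
  · refine ⟨0, ?_⟩
    rw [zero_smul]
    have hw1 : w.1 = 0 := by rw [hu, hv1, zero_mul]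
    exact Prod.ext hw1 (snd_eq_zero hP hed hsum hw hw1)
  have hw2 : w.2 = v.2 * u := mul_left_cancel₀ hv1 (by rw [hdet, hu]; ring)
  have hu0 : u.natDegree = 0 := by
    by_contra hne
    have hune : u ≠ 0 := fun h => hne (by rw [h, natDegree_zero])
    rcases hdeg with h | h
    · have := hw.1; rw [hu, natDegree_mul hv1 hune, h] at this; omega
    · have hv2 : v.2 ≠ 0 := fun h' => by
        rw [h', natDegree_zero] at h
        have := hed 0; have := hed 1; have := hed 2
        omega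
      have := hw.2.1; rw [hw2, natDegree_mul hv2 hune, h] at this; omega
  obtain ⟨c, rfl⟩ := natDegree_eq_zero.1 hu0
  exact ⟨c, Prod.ext (by simp [hu, smul_eq_C_mul, mul_comm]) (by simp [hw2, smul_eq_C_mul, mul_comm])⟩

end

section

variable (hP : Function.Injective P) (he2 : ∀ i, 2 ≤ e i) (hsum : e 0 + e 1 + e 2 = 2 * d + 1)
include hP he2 hsum

theorem exact_of_separable {V : Submodule k k[X]} (hV : IsCandidate d P e V)
    (hsep : W4c1limliniiii.IsSeparable V) :
    W4c1limliniiii.IsPencil d V ∧ ∀ i, W4c1limliniiii.HasRamIdx V (P i) (e i) := by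
  obtain ⟨hle, hfr, hs⟩ := hV
  choose s hsV hs0 hsm using hs
  obtain ⟨F, hF, G, hG, hW⟩ := hsep
  have hli : LinearIndependent k ![F, G] := by
    by_contra h
    exact hW (wronskian_eq_zero_of_not_independent h)
  have hspan := eq_span_pair hfr hF hG hli
  have hwr : ∀ x ∈ V, ∀ y ∈ V, ∃ c : k, wronskian x y = c • wronskian F G := fun x hx y hy =>
    exists_wronskian_eq (hspan.symm ▸ hx) (hspan.symm ▸ hy)
  have hdvdW : ∀ x ∈ V, x ≠ 0 → ∀ (i : Fin 3) (m : ℕ), (X - C (P i)) ^ m ∣ x →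
      (X - C (P i)) ^ (m - 1) ∣ wronskian F G := fun x hx hx0 i m hm =>
    pow_dvd_wronskian_of_mem (hspan.symm ▸ hx) hx0 hm
  have hsumle : ∀ f : Fin 3 → ℕ, (∀ i, (X - C (P i)) ^ f i ∣ wronskian F G) →
      ∀ n, F.natDegree ≤ n → G.natDegree ≤ n → f 0 + f 1 + f 2 + 2 ≤ 2 * n := fun f hf n hFn hGn => by
    have := sum_le_natDegree hP f hW hf
    rw [Fin.sum_univ_three] at this
    have := natDegree_wronskian_le hFn hGn hW
    omega
  have hbase : ∀ i, (X - C (P i)) ^ (e i - 1) ∣ wronskian F G := fun i =>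
    hdvdW (s i) (hsV i) (hs0 i) i (e i) (dvd_of_le_rootMultiplicity (hsm i))
  have hd : ∀ {x}, x ∈ V → x.natDegree ≤ d := fun h => natDegree_le_of_mem_degreeLE (hle h)
  refine ⟨⟨hle, hfr, ?_, ?_⟩, fun i => ⟨⟨s i, hsV i, hs0 i, hsm i⟩, ?_⟩⟩
  · by_contra h
    push Not at h
    have := hsumle (fun i => e i - 1) hbase (d - 1) (by have := h F hF; have := hd hF; omega)
      (by have := h G hG; have := hd hG; omega)
    have := he2 0; have := he2 1; have := he2 2
    omega
  · intro a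
    by_contra h
    push Not at h
    obtain ⟨F', hF'⟩ := dvd_iff_isRoot.2 (h F hF)
    obtain ⟨G', hG'⟩ := dvd_iff_isRoot.2 (h G hG)
    have hW' : wronskian F G = (X - C a) ^ 2 * wronskian F' G' := by
      simp only [hF', hG', wronskian, derivative_mul, derivative_sub, derivative_X, derivative_C]
      ring
    have hW'0 : wronskian F' G' ≠ 0 := fun h0 => hW (by rw [hW', h0, mul_zero])
    have hdF : F'.natDegree ≤ d - 1 := by
      have := hd hF
      rw [hF', natDegree_mul (X_sub_C_ne_zero a) (fun h0 => hW'0 (by rw [h0, wronskian_zero_left])),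
        natDegree_X_sub_C] at this
      omega
    have hdG : G'.natDegree ≤ d - 1 := by
      have := hd hG
      rw [hG', natDegree_mul (X_sub_C_ne_zero a) (fun h0 => hW'0 (by rw [h0, wronskian_zero_right])),
        natDegree_X_sub_C] at this
      omega
    have h1 := natDegree_wronskian_le hdF hdG hW'0
    classical
    have hkey : ∀ i, (X - C (P i)) ^ (if P i = a then e i - 2 else e i - 1) ∣ wronskian F' G' := by
      intro i
      obtain ⟨α, β, hαβ⟩ := Submodule.mem_span_pair.1 (hspan.symm ▸ hsV i : s i ∈ Submodule.span k {F, G})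
      have hsu : s i = (X - C a) * (α • F' + β • G') := by rw [← hαβ, hF', hG', mul_add, mul_smul_comm, mul_smul_comm]
      have hu0 : α • F' + β • G' ≠ 0 := fun h0 => hs0 i (by rw [hsu, h0, mul_zero])
      have hmem : α • F' + β • G' ∈ Submodule.span k {F', G'} := Submodule.mem_span_pair.2 ⟨α, β, rfl⟩
      have hdvd := dvd_of_le_rootMultiplicity (hsm i)
      split_ifs with hPa
      · have h3 : (X - C (P i)) ^ (e i - 1) ∣ α • F' + β • G' := by
          rw [hsu, hPa, show e i = e i - 1 + 1 by have := he2 i; omega, pow_succ'] at hdvd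
          rw [hPa]
          exact (mul_dvd_mul_iff_left (X_sub_C_ne_zero a)).1 hdvd
        exact pow_dvd_wronskian_of_mem hmem hu0 h3
      · rw [hsu] at hdvd
        exact pow_dvd_wronskian_of_mem hmem hu0
          ((isCoprime_X_sub_C_of_isUnit_sub (sub_ne_zero.2 hPa).isUnit).pow_left.dvd_of_dvd_mul_left hdvd)
    have h2 := sum_le_natDegree hP _ hW'0 hkey
    rw [Fin.sum_univ_three] at h2
    have := he2 0; have := he2 1; have := he2 2
    have h01 : P 0 ≠ P 1 := fun h => absurd (hP h) (by decide)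
    have h02 : P 0 ≠ P 2 := fun h => absurd (hP h) (by decide)
    have h12 : P 1 ≠ P 2 := fun h => absurd (hP h) (by decide)
    by_cases c0 : P 0 = a <;> by_cases c1 : P 1 = a <;> by_cases c2 : P 2 = a <;>
      simp_all <;> omega
  · intro x hx hx0
    by_contra h
    push Not at h
    have := hsumle (Function.update (fun j => e j - 1) i (e i)) (fun j => by
      by_cases hji : j = i
      · subst hji
        rw [Function.update_self]
        simpa using hdvdW x hx hx0 j (e j + 1) (dvd_of_le_rootMultiplicity h)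
      · rw [Function.update_of_ne hji]
        exact hbase j) d (hd hF) (hd hG)
    have := he2 0; have := he2 1; have := he2 2
    fin_cases i <;> simp [Function.update] at this <;> omega

end

end Groth.Agent.CAlg9.Pencil
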