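import Groth.Agent.CAlg9.Pencil.ThreePoints

/-!
Uniqueness of base-point-free pencils with three ramification points.
-/

set_option autoImplicit false
universe u

open Polynomial

namespace Groth.Agent.CAlg9.Pencil

variable {k : Type u} [Field k] {p d : ℕ} {P : Fin 3 → k} {e : Fin 3 → ℕ}

theorem admissible_data (he : W4c1limliniiii.Admissible p d e) :
    (∀ i, 2 ≤ e i) ∧ (∀ i, e i ≤ d) ∧ e 0 + e 1 + e 2 = 2 * d + 1 := by
  have h := he.2
  rw [Fin.sum_univ_three] at h
  exact ⟨fun i => (he.1 i).1, fun i => (he.1 i).2.1, by omega⟩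

theorem candidate_of_mem_ramMaps {V : Submodule k k[X]} (hV : V ∈ W4c1limliniiii.ramMaps d P e) :
    IsCandidate d P e V :=
  ⟨hV.1.1, hV.1.2.1, fun i => (hV.2.2 i).1⟩

theorem eq_of_pencil [IsAlgClosed k] (hP : Function.Injective P) (he : W4c1limliniiii.Admissible p d e)
    {V V' : Submodule k k[X]} (hV : V ∈ W4c1limliniiii.ramMaps d P e) (hV' : IsCandidate d P e V') : V' = V := by
  obtain ⟨h2, hd, hsum⟩ := admissible_data he
  obtain ⟨v, hv, _, hvV⟩ := exists_span_eq hP hd hsum (candidate_of_mem_ramMaps hV)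
  obtain ⟨w, hw, hw0, hwV⟩ := exists_span_eq hP hd hsum hV'
  obtain ⟨c, rfl⟩ := eq_smul_of_pencil hP hd hsum hv hw (hvV.symm ▸ hV.1)
  have hc : c ≠ 0 := fun h => hw0 (by rw [h, zero_smul])
  rw [← hvV, ← hwV]
  refine eq_span_pair ?_ (Submodule.smul_mem _ c (Submodule.subset_span (by simp)))
    (Submodule.smul_mem _ c (Submodule.subset_span (by simp))) (independent_of_mem hP hd hsum hw hw0)
  rw [hvV]
  exact hV.1.2.1

theorem mem_ramMaps_of_separable (hP : Function.Injective P) (he : W4c1limliniiii.Admissible p d e)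
    {V : Submodule k k[X]} (hV : IsCandidate d P e V) (hs : W4c1limliniiii.IsSeparable V) :
    V ∈ W4c1limliniiii.ramMaps d P e := by
  obtain ⟨h2, hd, hsum⟩ := admissible_data he
  obtain ⟨h1, h3⟩ := exact_of_separable hP h2 hsum hV hs
  exact ⟨h1, hs, h3⟩

theorem exists_candidate (hP : Function.Injective P) (he : W4c1limliniiii.Admissible p d e) :
    ∃ V : Submodule k k[X], IsCandidate d P e V := by
  obtain ⟨h2, hd, hsum⟩ := admissible_data he
  obtain ⟨v, hv, h0⟩ := (Submodule.ne_bot_iff _).1 (tripleSub_ne_bot hP hd hsum)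
  exact ⟨_, isCandidate_span hP hd hsum hv h0⟩

theorem wronskian_ne_zero_of_small [CharP k p] (hp : p = 0 ∨ d < p) {a b : k[X]} (ha : a.natDegree ≤ d)
    (hb : b.natDegree ≤ d) (hli : LinearIndependent k ![a, b]) : wronskian a b ≠ 0 := by
  have cast_inj : ∀ m n : ℕ, m ≤ d → n ≤ d → (m : k) = n → m = n := by
    intro m n hm hn h
    rcases hp with rfl | hp
    · have := CharP.charP_to_charZero k
      exact_mod_cast h
    · have := (CharP.natCast_eq_natCast k p).1 h
      rwa [Nat.ModEq, Nat.mod_eq_of_lt (hm.trans_lt hp), Nat.mod_eq_of_lt (hn.trans_lt hp)] at this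
  have key : ∀ a b : k[X], a ≠ 0 → b ≠ 0 → a.natDegree < b.natDegree → b.natDegree ≤ d → wronskian a b ≠ 0 := by
    intro a b ha0 hb0 hlt hbd h
    obtain ⟨n, hn⟩ : ∃ n, b.natDegree = n + 1 := ⟨b.natDegree - 1, by omega⟩
    rw [wronskian, sub_eq_zero] at h
    have hcb : ((n + 1 : ℕ) : k) ≠ 0 := fun h0 => by
      have := cast_inj (n + 1) 0 (by omega) (Nat.zero_le _) (by rw [h0, Nat.cast_zero])
      omega
    have hL : (a * derivative b).coeff (a.natDegree + n) =
        a.leadingCoeff * (b.leadingCoeff * ((n + 1 : ℕ) : k)) := by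
      rw [coeff_mul_add_eq_of_natDegree_le le_rfl ((natDegree_derivative_le b).trans (by omega)), coeff_derivative,
        leadingCoeff, leadingCoeff, hn]
      push_cast
      ring
    rcases Nat.eq_zero_or_pos a.natDegree with hm | hm
    · have ha' : derivative a = 0 := by rw [eq_C_of_natDegree_eq_zero hm, derivative_C]
      rw [ha', zero_mul] at h
      rw [h, coeff_zero] at hL
      exact mul_ne_zero (leadingCoeff_ne_zero.2 ha0) (mul_ne_zero (leadingCoeff_ne_zero.2 hb0) hcb) hL.symm
    · obtain ⟨m, hm'⟩ : ∃ m, a.natDegree = m + 1 := ⟨a.natDegree - 1, by omega⟩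
      have hR : (derivative a * b).coeff (m + (n + 1)) =
          a.leadingCoeff * ((m + 1 : ℕ) : k) * b.leadingCoeff := by
        rw [coeff_mul_add_eq_of_natDegree_le ((natDegree_derivative_le a).trans (by omega)) hn.le, coeff_derivative,
          leadingCoeff, leadingCoeff, hn, hm']
        push_cast
        ring
      rw [h, show a.natDegree + n = m + (n + 1) by omega, hR] at hL
      have h2 : ((m + 1 : ℕ) : k) = ((n + 1 : ℕ) : k) := by
        apply mul_left_cancel₀ (leadingCoeff_ne_zero.2 ha0)
        apply mul_right_cancel₀ (leadingCoeff_ne_zero.2 hb0)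
        rw [hL]; ring
      have := cast_inj _ _ (by omega) (by omega) h2
      omega
  have ha0 : a ≠ 0 := by simpa using hli.ne_zero 0
  have hb0 : b ≠ 0 := by simpa using hli.ne_zero 1
  rcases lt_trichotomy a.natDegree b.natDegree with h | h | h
  · exact key a b ha0 hb0 h hb
  · let c : k := b.leadingCoeff / a.leadingCoeff
    have hne : b - c • a ≠ 0 := fun h0 => by
      have := (LinearIndependent.pair_iff.1 hli) (-c) 1 (by rw [one_smul, neg_smul, neg_add_eq_sub, h0])
      exact one_ne_zero this.2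
    have hlt : (b - c • a).natDegree < a.natDegree := by
      have hc : b.coeff a.natDegree - c * a.coeff a.natDegree = 0 := by
        have h1 : a.coeff a.natDegree ≠ 0 := leadingCoeff_ne_zero.2 ha0
        simp only [c, leadingCoeff, ← h]
        rw [div_mul_cancel₀ _ h1, sub_self]
      refine lt_of_le_of_ne ((natDegree_sub_le _ _).trans (max_le h.ge (natDegree_smul_le _ _))) fun heq => ?_
      have : (b - c • a).coeff a.natDegree ≠ 0 := by
        rw [← heq]; exact leadingCoeff_ne_zero.2 hne
      exact this (by rw [coeff_sub, coeff_smul, smul_eq_mul, hc])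
    have h1 := key _ a hne ha0 hlt ha
    intro h0
    apply h1
    rw [show b - c • a = (-c) • a + (1 : k) • b by rw [neg_smul, one_smul]; abel]
    have h2 := wronskian_smul_add a b (-c) 1 1 0
    rw [h0] at h2
    simpa using h2
  · rw [← wronskian_neg_eq, neg_ne_zero]
    exact key b a hb0 ha0 h ha

end Groth.Agent.CAlg9.Pencil
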